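import Cfsg.Agent.Characters.Orthogonality
import Cfsg.Agent.Characters.Linear
import Mathlib.Data.ZMod.Units

/-!
# Irreducible products of representations

If the tensor product of two irreducible representations has irreducible character, every operator
commuting with it is a scalar. Applied to `∑_{x ∈ E} ρ x ⊗ ρ' (x ^ j)` for a normal subgroup `E`
this bounds the normal subgroups of groups with such representations.
-/

set_option autoImplicit false
set_option linter.style.haveILetI false
set_option linter.unusedSectionVars false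

namespace CfsgLib.GaloisProduct

open scoped ComplexConjugate TensorProduct

universe u v w
variable {G : Type u} [Group G] [Fintype G]

/-- An operator commuting with a representation with irreducible character is a scalar. -/
theorem scalar_of_commute {V : Type v} [AddCommGroup V] [Module ℂ V] [FiniteDimensional ℂ V]
    (τ : Representation ℂ G V) (hτ : Cfsg.IsIrrCharacter G τ.character)
    (T : V →ₗ[ℂ] V) (hT : ∀ g x, T (τ g x) = τ g (T x)) :
    ∃ c : ℂ, T = c • (1 : V →ₗ[ℂ] V) := by
  have h1 : (Module.finrank ℂ (Representation.IntertwiningMap τ τ) : ℂ) = 1 := by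
    rw [← CfsgLib.Characters.classInner_char, CfsgLib.Characters.classInner_isIrr_self hτ]
  have h1' : Module.finrank ℂ (Representation.IntertwiningMap τ τ) = 1 := by exact_mod_cast h1
  let one' : Representation.IntertwiningMap τ τ :=
    ⟨(1 : V →ₗ[ℂ] V), fun g => LinearMap.ext fun x => rfl⟩
  have hne : one' ≠ 0 := by
    intro h0
    obtain ⟨d, hd, hd'⟩ := CfsgLib.Characters.exists_degree_pos hτ
    rw [Representation.char_one, Nat.cast_inj] at hd'
    haveI : Nontrivial V := Module.finrank_pos_iff.1 (hd' ▸ hd)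
    obtain ⟨v, hv⟩ := exists_ne (0 : V)
    exact hv (congrArg (fun φ : Representation.IntertwiningMap τ τ => φ.toLinearMap v) h0)
  obtain ⟨c, hc⟩ := (finrank_eq_one_iff_of_nonzero' one' hne).1 h1'
    ⟨T, fun g => LinearMap.ext fun x => hT g x⟩
  exact ⟨c, (congrArg (fun φ : Representation.IntertwiningMap τ τ => φ.toLinearMap) hc).symm⟩

variable {V : Type v} [AddCommGroup V] [Module ℂ V] [FiniteDimensional ℂ V]
  {W : Type w} [AddCommGroup W] [Module ℂ W] [FiniteDimensional ℂ W]
  (ρ : Representation ℂ G V) (ρ' : Representation ℂ G W)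

/-- The outer tensor product. -/
noncomputable def outer : Representation ℂ (G × G) (V ⊗[ℂ] W) :=
  Representation.tprod (ρ.comp (MonoidHom.fst G G)) (ρ'.comp (MonoidHom.snd G G))

theorem char_outer (a b : G) :
    (outer ρ ρ').character (a, b) = ρ.character a * ρ'.character b := by
  rw [outer, Representation.char_tensor]
  rfl

theorem outer_diag (g : G) : outer ρ ρ' (g, g) = Representation.tprod ρ ρ' g := rfl

/-- The operator `∑_{x ∈ E} ρ x ⊗ ρ' (x ^ j)`. -/
noncomputable def graphOp (E : Finset G) (j : ℕ) : (V ⊗[ℂ] W) →ₗ[ℂ] (V ⊗[ℂ] W) :=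
  ∑ x ∈ E, outer ρ ρ' (x, x ^ j)

theorem trace_outer_mul_graphOp (E : Finset G) (j : ℕ) (a b : G) :
    LinearMap.trace ℂ _ (outer ρ ρ' (a, b) * graphOp ρ ρ' E j) =
      ∑ x ∈ E, ρ.character (a * x) * ρ'.character (b * x ^ j) := by
  rw [graphOp, Finset.mul_sum, map_sum]
  refine Finset.sum_congr rfl fun x _ => ?_
  rw [← map_mul, Prod.mk_mul_mk]
  exact char_outer ρ ρ' _ _

/-- For a normal subgroup and irreducible product, `graphOp` is a scalar, determined by its
trace, and the twisted traces are proportional to the characters. -/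
theorem trace_identity (hirr : Cfsg.IsIrrCharacter G (Representation.tprod ρ ρ').character)
    (E : Subgroup G) [E.Normal] [DecidablePred (· ∈ E)] (j : ℕ) (a b : G) :
    (Module.finrank ℂ V * Module.finrank ℂ W : ℂ) *
        ∑ x ∈ Finset.univ.filter (· ∈ E), ρ.character (a * x) * ρ'.character (b * x ^ j) =
      (∑ x ∈ Finset.univ.filter (· ∈ E), ρ.character x * ρ'.character (x ^ j)) *
        (ρ.character a * ρ'.character b) := by
  set s := Finset.univ.filter (· ∈ E) with hs
  obtain ⟨c, hc⟩ := scalar_of_commute _ hirr (graphOp ρ ρ' s j) (fun g v => by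
    simp only [graphOp, LinearMap.sum_apply, map_sum, ← outer_diag]
    simp only [← Module.End.mul_apply, ← map_mul, Prod.mk_mul_mk]
    have hmem : ∀ x, x ∈ s ↔ g⁻¹ * x * g ∈ s := fun x => by
      simp only [hs, Finset.mem_filter, Finset.mem_univ, true_and]
      refine ⟨fun h => by simpa using (inferInstance : E.Normal).conj_mem x h g⁻¹, fun h => ?_⟩
      simpa [mul_assoc] using (inferInstance : E.Normal).conj_mem _ h g
    refine Finset.sum_nbij' (fun x => g⁻¹ * x * g) (fun x => g * x * g⁻¹) (fun x hx => (hmem x).1 hx)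
      (fun x hx => (hmem _).2 (by simpa [mul_assoc] using hx)) (fun x _ => by group)
      (fun x _ => by group) fun x _ => ?_
    congr 3
    · group
    · rw [show g⁻¹ * x * g = g⁻¹ * x * g⁻¹⁻¹ by rw [inv_inv], conj_pow, inv_inv]
      group)
  have ht : ∀ a b : G, ∑ x ∈ s, ρ.character (a * x) * ρ'.character (b * x ^ j) =
      c * (ρ.character a * ρ'.character b) := fun a b => by
    rw [← trace_outer_mul_graphOp, hc, mul_smul_comm, mul_one, map_smul, smul_eq_mul,
      ← char_outer]
    rfl
  have h1 := ht 1 1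
  simp only [one_mul, Representation.char_one] at h1
  rw [ht, h1]
  ring

/-- Commutative normal subgroups act by scalars. -/
theorem norm_char_eq_of_comm (hirr : Cfsg.IsIrrCharacter G (Representation.tprod ρ ρ').character)
    (E : Subgroup G) [E.Normal] (hE : ∀ a ∈ E, ∀ b ∈ E, a * b = b * a) (j : ℕ)
    (hj : ∀ g : G, ρ'.character (g ^ j) = conj (ρ.character g))
    {y : G} (hy : y ∈ E) : ‖ρ.character y‖ = (Module.finrank ℂ V : ℝ) := by
  classical
  have hdim : Module.finrank ℂ W = Module.finrank ℂ V := by
    have := hj 1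
    rw [one_pow, Representation.char_one, Representation.char_one, Complex.conj_natCast] at this
    exact_mod_cast this
  set n := Module.finrank ℂ V
  have hn : 0 < n := by
    obtain ⟨d, hd, hd'⟩ := CfsgLib.Characters.exists_degree_pos hirr
    rw [Representation.char_tensor, Pi.mul_apply, Representation.char_one, Representation.char_one,
      hdim, ← Nat.cast_mul, Nat.cast_inj] at hd'
    exact Nat.pos_of_mul_pos_left (hd' ▸ hd)
  set s := Finset.univ.filter (· ∈ E) with hs
  set S : ℂ := ∑ x ∈ s, ρ.character x * ρ'.character (x ^ j) with hS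
  have hid : ∀ a ∈ E, ∑ x ∈ s, ρ.character (a * x) * ρ'.character (a ^ j * x ^ j) = S := by
    intro a ha
    refine Finset.sum_nbij' (fun x => a * x) (fun x => a⁻¹ * x)
      (fun x hx => ?_) (fun x hx => ?_) (fun x _ => inv_mul_cancel_left a x)
      (fun x _ => mul_inv_cancel_left a x) (fun x hx => ?_)
    · simp only [hs, Finset.mem_filter, Finset.mem_univ, true_and] at hx ⊢
      exact E.mul_mem ha hx
    · simp only [hs, Finset.mem_filter, Finset.mem_univ, true_and] at hx ⊢
      exact E.mul_mem (E.inv_mem ha) hx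
    · simp only [hs, Finset.mem_filter, Finset.mem_univ, true_and] at hx
      rw [(show Commute a x from hE a ha x hx).mul_pow]
  have hpos : S ≠ 0 := by
    have hre : ∀ x : G, ρ.character x * ρ'.character (x ^ j) = (‖ρ.character x‖ ^ 2 : ℝ) := fun x => by
      rw [hj, Complex.mul_conj']; norm_num
    intro h0
    rw [hS, Finset.sum_congr rfl fun x _ => hre x, ← Complex.ofReal_sum, Complex.ofReal_eq_zero,
      Finset.sum_eq_zero_iff_of_nonneg fun x _ => sq_nonneg _] at h0
    have := h0 1 (by simp [hs, E.one_mem])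
    simp only [Representation.char_one, Complex.norm_natCast] at this
    have hn' : (0 : ℝ) < (Module.finrank ℂ V : ℝ) := by exact_mod_cast hn
    nlinarith
  have h := trace_identity ρ ρ' hirr E j y (y ^ j)
  rw [← hs, hid y hy, ← hS, mul_comm, mul_right_inj' hpos, hj, Complex.mul_conj', hdim,
    ← Nat.cast_mul, ← Complex.ofReal_natCast, ← Complex.ofReal_pow, Complex.ofReal_inj,
    Nat.cast_mul, ← sq] at h
  exact ((pow_left_inj₀ (by positivity) (norm_nonneg _) two_ne_zero).1 h).symm

/-- A normal subgroup all of whose elements are scalars or zeros of `ρ` consists of scalars. -/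
theorem norm_char_eq_of_zero_or_scalar
    (hirr : Cfsg.IsIrrCharacter G (Representation.tprod ρ ρ').character)
    (E : Subgroup G) [E.Normal] (j : ℕ)
    (hj : ∀ g : G, ρ'.character (g ^ j) = conj (ρ.character g))
    (Z : Subgroup G) (hZ : ∀ z ∈ Z, ∀ g : G, g * z = z * g)
    (hvan : ∀ x ∈ E, x ∉ Z → ρ.character x = 0) {y : G} (hy : y ∈ E) : y ∈ Z := by
  classical
  by_contra hyZ
  set s := Finset.univ.filter (· ∈ E) with hs
  have hy0 := hvan y hy hyZ
  have h := trace_identity ρ ρ' hirr E j y⁻¹ (y ^ j)⁻¹
  rw [CfsgLib.Characters.char_inv ρ, hy0, map_zero, zero_mul, mul_zero, ← hs] at h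
  have hterm : ∀ x ∈ s, ρ.character (y⁻¹ * x) * ρ'.character ((y ^ j)⁻¹ * x ^ j) =
      ((if y⁻¹ * x ∈ Z then ‖ρ.character (y⁻¹ * x)‖ ^ 2 else 0 : ℝ) : ℂ) := by
    intro x hx
    simp only [hs, Finset.mem_filter, Finset.mem_univ, true_and] at hx
    split_ifs with hz
    · have hx' : x = y * (y⁻¹ * x) := by group
      have hpow : (y ^ j)⁻¹ * x ^ j = (y⁻¹ * x) ^ j := by
        conv_lhs => rw [hx']
        rw [(show Commute y (y⁻¹ * x) from hZ _ hz y).mul_pow, inv_mul_cancel_left]
      rw [hpow, hj, Complex.mul_conj']; norm_num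
    · rw [hvan _ (E.mul_mem (E.inv_mem hy) hx) hz, zero_mul, Complex.ofReal_zero]
  have hdim : Module.finrank ℂ W = Module.finrank ℂ V := by
    have := hj 1
    rw [one_pow, Representation.char_one, Representation.char_one, Complex.conj_natCast] at this
    exact_mod_cast this
  have hn : 0 < Module.finrank ℂ V := by
    obtain ⟨d, hd, hd'⟩ := CfsgLib.Characters.exists_degree_pos hirr
    rw [Representation.char_tensor, Pi.mul_apply, Representation.char_one, Representation.char_one,
      hdim, ← Nat.cast_mul, Nat.cast_inj] at hd'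
    exact Nat.pos_of_mul_pos_left (hd' ▸ hd)
  rw [Finset.sum_congr rfl hterm, ← Complex.ofReal_sum, hdim, mul_eq_zero,
    Complex.ofReal_eq_zero] at h
  rcases h with h | h
  · exact (mul_ne_zero (Nat.cast_ne_zero.2 hn.ne') (Nat.cast_ne_zero.2 hn.ne')) h
  · rw [Finset.sum_eq_zero_iff_of_nonneg fun x _ => by split_ifs <;> positivity] at h
    have := h y (by simp [hs, hy])
    simp only [inv_mul_cancel, one_mem, if_true, Representation.char_one,
      Complex.norm_natCast] at this
    have hn' : (0 : ℝ) < (Module.finrank ℂ V : ℝ) := by exact_mod_cast hn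
    nlinarith

/-- For `k` prime to `#G` some `j` gives `g ^ (j * k) = g⁻¹` for all `g`. -/
theorem exists_pow_mul_eq_inv {k : ℕ} (hk : Nat.Coprime k (Nat.card G)) :
    ∃ j : ℕ, ∀ g : G, g ^ (j * k) = g⁻¹ := by
  haveI : NeZero (Nat.card G) := ⟨Nat.card_pos.ne'⟩
  let u : (ZMod (Nat.card G))ˣ := -(ZMod.unitOfCoprime k hk)⁻¹
  refine ⟨(u : ZMod (Nat.card G)).val, fun g => eq_inv_of_mul_eq_one_left ?_⟩
  rw [← pow_succ]
  refine orderOf_dvd_iff_pow_eq_one.1 ((orderOf_dvd_natCard g).trans ?_)
  rw [← ZMod.natCast_eq_zero_iff, Nat.cast_add, Nat.cast_mul, Nat.cast_one, ZMod.natCast_zmod_val]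
  simp only [u, Units.val_neg, neg_mul]
  rw [← ZMod.coe_unitOfCoprime k hk, Units.inv_mul, neg_add_cancel]

end CfsgLib.GaloisProduct
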